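import Mathlib

/-!
# Shunt calculus (interval subgroups) — definitions and basic lemmas

`Qv P g t a ℓ = ⋂_{a+ℓ-t ≤ i ≤ a} g^i P g^{-i}`.  In the situation `Sh P g p t`
(all these have order `p ^ ℓ` for `ℓ ≤ t`), `Qv P g t a ℓ` is the subgroup generated by
`xs g x a, …, xs g x (a+ℓ-1)` where `xs g x i = g^i x g^{-i}` and `1 ≠ x ∈ Qv P g t 0 1`.
-/

namespace Cfsg.Agent.Lib.Helper49.Shunt

universe u

open Pointwise

variable {G : Type*} [Group G]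

/-- interval subgroup `⋂_{a+ℓ-t ≤ i ≤ a} g^i P g^{-i}` -/
def Qv (P : Subgroup G) (g : G) (t : ℕ) (a : ℤ) (ℓ : ℕ) : Subgroup G where
  carrier := {y | ∀ i : ℤ, a + ℓ - t ≤ i → i ≤ a → (g ^ i)⁻¹ * y * g ^ i ∈ P}
  mul_mem' := by
    intro y z hy hz i hi1 hi2
    have : (g ^ i)⁻¹ * (y * z) * g ^ i = ((g ^ i)⁻¹ * y * g ^ i) * ((g ^ i)⁻¹ * z * g ^ i) := by
      group
    rw [this]; exact P.mul_mem (hy i hi1 hi2) (hz i hi1 hi2)
  one_mem' := by intro i _ _; simp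
  inv_mem' := by
    intro y hy i hi1 hi2
    have : (g ^ i)⁻¹ * y⁻¹ * g ^ i = ((g ^ i)⁻¹ * y * g ^ i)⁻¹ := by group
    rw [this]; exact P.inv_mem (hy i hi1 hi2)

theorem mem_Qv {P : Subgroup G} {g : G} {t : ℕ} {a : ℤ} {ℓ : ℕ} {y : G} :
    y ∈ Qv P g t a ℓ ↔ ∀ i : ℤ, a + ℓ - t ≤ i → i ≤ a → (g ^ i)⁻¹ * y * g ^ i ∈ P :=
  Iff.rfl

/-- the shunt situation: all interval subgroups of length `ℓ ≤ t` have order `p ^ ℓ` -/
structure Sh (P : Subgroup G) (g : G) (p t : ℕ) : Prop where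
  hp : p.Prime
  ht : 1 ≤ t
  card : ∀ (a : ℤ) (ℓ : ℕ), ℓ ≤ t → Nat.card (Qv P g t a ℓ) = p ^ ℓ

/-- the shifted elements `g^i x g^{-i}` -/
def xs (g x : G) (i : ℤ) : G := g ^ i * x * (g ^ i)⁻¹

theorem Qv_congr {P : Subgroup G} {g : G} {t : ℕ} {a a' : ℤ} {ℓ ℓ' : ℕ} (ha : a = a')
    (hℓ : ℓ = ℓ') : Qv P g t a ℓ = Qv P g t a' ℓ' := by
  subst ha; subst hℓ; rfl

theorem Qv_mono {P : Subgroup G} {g : G} {t : ℕ} {a a' : ℤ} {ℓ ℓ' : ℕ} (h1 : a' ≤ a)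
    (h2 : a + ℓ ≤ a' + ℓ') : Qv P g t a ℓ ≤ Qv P g t a' ℓ' := by
  intro y hy
  rw [mem_Qv] at hy ⊢
  intro i hi1 hi2
  exact hy i (by omega) (by omega)

theorem Qv_full (P : Subgroup G) (g : G) (t : ℕ) : Qv P g t 0 t = P := by
  ext y
  rw [mem_Qv]
  constructor
  · intro h
    have := h 0 (by omega) le_rfl
    simpa using this
  · intro h i hi1 hi2
    have : i = 0 := by omega
    subst this
    simpa using h

theorem Qv_inf {P : Subgroup G} {g : G} {t : ℕ} (a : ℤ) {ℓ : ℕ} (h : ℓ + 1 ≤ t) :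
    Qv P g t a (ℓ + 1) ⊓ Qv P g t (a + 1) (ℓ + 1) = Qv P g t (a + 1) ℓ := by
  ext y
  rw [Subgroup.mem_inf, mem_Qv, mem_Qv, mem_Qv]
  constructor
  · rintro ⟨h1, h2⟩ i hi1 hi2
    by_cases hi : i ≤ a
    · exact h1 i (by push_cast; omega) hi
    · exact h2 i (by push_cast; omega) hi2
  · intro h3
    exact ⟨fun i hi1 hi2 => h3 i (by push_cast at hi1; omega) (by omega),
      fun i hi1 hi2 => h3 i (by push_cast at hi1; omega) hi2⟩

theorem Qv_zero {P : Subgroup G} {g : G} {p t : ℕ} (hS : Sh P g p t) (a : ℤ) :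
    Qv P g t a 0 = ⊥ := by
  have := hS.card a 0 (Nat.zero_le _)
  rw [pow_zero] at this
  exact Subgroup.card_eq_one.mp this

theorem Qv_disj {P : Subgroup G} {g : G} {p t : ℕ} (hS : Sh P g p t) (a : ℤ) {ℓ₁ ℓ₂ : ℕ}
    (h : ℓ₁ + ℓ₂ ≤ t) : Qv P g t a ℓ₁ ⊓ Qv P g t (a + ℓ₁) ℓ₂ = ⊥ := by
  rw [eq_bot_iff, ← Qv_zero hS (a + ℓ₁)]
  intro y hy
  rw [Subgroup.mem_inf, mem_Qv, mem_Qv] at hy
  rw [mem_Qv]
  intro i hi1 hi2
  by_cases hi : i ≤ a
  · exact hy.1 i (by push_cast at hi1; omega) hi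
  · exact hy.2 i (by push_cast at hi1 ⊢; omega) hi2

theorem Qv_conj {P : Subgroup G} {g : G} {t : ℕ} {a : ℤ} {ℓ : ℕ} (k : ℤ) {y : G} :
    g ^ k * y * (g ^ k)⁻¹ ∈ Qv P g t (a + k) ℓ ↔ y ∈ Qv P g t a ℓ := by
  rw [mem_Qv, mem_Qv]
  have key : ∀ i : ℤ, (g ^ i)⁻¹ * (g ^ k * y * (g ^ k)⁻¹) * g ^ i
      = (g ^ (i - k))⁻¹ * y * g ^ (i - k) := by
    intro i
    rw [zpow_sub]
    group
  constructor
  · intro h i hi1 hi2
    have := h (i + k) (by omega) (by omega)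
    rw [key] at this
    simpa using this
  · intro h i hi1 hi2
    rw [key]
    exact h (i - k) (by omega) (by omega)

theorem xs_zero (g x : G) : xs g x 0 = x := by simp [xs]

theorem xs_mem {P : Subgroup G} {g : G} {t : ℕ} {x : G} (hx : x ∈ Qv P g t 0 1) (i : ℤ) :
    xs g x i ∈ Qv P g t i 1 := by
  have := (Qv_conj (P := P) (g := g) (t := t) (a := 0) (ℓ := 1) i (y := x)).mpr hx
  rwa [zero_add] at this

theorem xs_ne_one {g x : G} (hx : x ≠ 1) (i : ℤ) : xs g x i ≠ 1 := by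
  intro h
  apply hx
  unfold xs at h
  have : x = (g ^ i)⁻¹ * (g ^ i * x * (g ^ i)⁻¹) * g ^ i := by group
  rw [this, h]; group

theorem xs_add (g x : G) (i j : ℤ) : xs g x (i + j) = g ^ i * xs g x j * (g ^ i)⁻¹ := by
  unfold xs
  rw [zpow_add]
  group

theorem xs_mem_of_le {P : Subgroup G} {g : G} {t : ℕ} {x : G} (hx : x ∈ Qv P g t 0 1)
    {a i : ℤ} {ℓ : ℕ} (h1 : a ≤ i) (h2 : i < a + ℓ) : xs g x i ∈ Qv P g t a ℓ :=
  Qv_mono h1 (by push_cast; omega) (xs_mem hx i)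

theorem commute_xs_shift (g x : G) (i j : ℤ) :
    Commute (xs g x i) (xs g x j) ↔ Commute (xs g x 0) (xs g x (j - i)) := by
  have h1 : xs g x i = g ^ i * xs g x 0 * (g ^ i)⁻¹ := by
    have := xs_add g x i 0
    rwa [add_zero] at this
  have h2 : xs g x j = g ^ i * xs g x (j - i) * (g ^ i)⁻¹ := by
    have := xs_add g x i (j - i)
    rwa [add_sub_cancel] at this
  rw [h1, h2]
  constructor
  · intro h
    have h' : g ^ i * xs g x 0 * (g ^ i)⁻¹ * (g ^ i * xs g x (j - i) * (g ^ i)⁻¹)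
        = g ^ i * xs g x (j - i) * (g ^ i)⁻¹ * (g ^ i * xs g x 0 * (g ^ i)⁻¹) := h
    show xs g x 0 * xs g x (j - i) = xs g x (j - i) * xs g x 0
    have e1 : xs g x 0 * xs g x (j - i) = (g ^ i)⁻¹ * (g ^ i * xs g x 0 * (g ^ i)⁻¹ *
        (g ^ i * xs g x (j - i) * (g ^ i)⁻¹)) * g ^ i := by group
    rw [e1, h']; group
  · intro h
    have h' : xs g x 0 * xs g x (j - i) = xs g x (j - i) * xs g x 0 := h
    show g ^ i * xs g x 0 * (g ^ i)⁻¹ * (g ^ i * xs g x (j - i) * (g ^ i)⁻¹)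
        = g ^ i * xs g x (j - i) * (g ^ i)⁻¹ * (g ^ i * xs g x 0 * (g ^ i)⁻¹)
    have e1 : g ^ i * xs g x 0 * (g ^ i)⁻¹ * (g ^ i * xs g x (j - i) * (g ^ i)⁻¹)
        = g ^ i * (xs g x 0 * xs g x (j - i)) * (g ^ i)⁻¹ := by group
    rw [e1, h']; group

/-- all shifts at distance `< lam` commute -/
def Cm (g x : G) (lam : ℕ) : Prop :=
  ∀ d : ℕ, 1 ≤ d → d < lam → Commute (xs g x 0) (xs g x d)

theorem Cm.commute {g x : G} {lam : ℕ} (h : Cm g x lam) {i j : ℤ} (h1 : i - j < lam)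
    (h2 : j - i < lam) : Commute (xs g x i) (xs g x j) := by
  rcases lt_trichotomy i j with hij | hij | hij
  · rw [commute_xs_shift]
    have := h (j - i).toNat (by omega) (by omega)
    rwa [Int.toNat_of_nonneg (by omega)] at this
  · subst hij; exact Commute.refl _
  · apply Commute.symm
    rw [commute_xs_shift]
    have := h (i - j).toNat (by omega) (by omega)
    rwa [Int.toNat_of_nonneg (by omega)] at this

/-! ## Package statements (proved in other files) -/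

/-- (K2) chain package: Glauberman's hypotheses give a shunt situation. -/
def LemChain : Prop :=
  ∀ (G : Type u) [Group G] [Finite G] (P : Subgroup G) (g : G) (p : ℕ), p.Prime →
    ((P ⊓ MulAut.conj g⁻¹ • P).subgroupOf (MulAut.conj g⁻¹ • P)).Normal →
    (P ⊓ MulAut.conj g⁻¹ • P).relIndex (MulAut.conj g⁻¹ • P) = p →
    (∀ Q : Subgroup G, Q ≤ P → (Q.subgroupOf P).Normal → MulAut.conj g • Q = Q → Q = ⊥) →
    ∃ t : ℕ, Sh P g p t

/-- (K3) generation package: interval subgroups are generated by the shifts of `x`. -/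
def LemGen : Prop :=
  ∀ (G : Type u) [Group G] [Finite G] (P : Subgroup G) (g : G) (p t : ℕ), Sh P g p t →
    ∀ x : G, x ∈ Qv P g t 0 1 → x ≠ 1 → ∀ (a : ℤ) (ℓ : ℕ), ℓ ≤ t →
      Qv P g t a ℓ = Subgroup.closure {y | ∃ i : ℤ, a ≤ i ∧ i < a + ℓ ∧ y = xs g x i}

end Cfsg.Agent.Lib.Helper49.Shunt
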