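import Cfsg.Agent.Lib.Helper49.Shunt.ShDefs

/-!
# Shunt calculus — the commutator core

In the situation `Ctx P g p t x` (shunt situation with generation), if `lam` is the first
distance at which the shifts of `x` do not commute (`lam + 1 ≤ t`), then `2 * t ≤ 3 * lam`.
Moreover `2 * lam ≤ t + n` as soon as `P` meets the centre of `⟨g^{-i} P g^{i} : i ≤ n⟩` trivially.
-/

namespace Cfsg.Agent.Lib.Helper49.Shunt

universe u

open Pointwise
open scoped commutatorElement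

variable {G : Type*} [Group G]

theorem exists_last {Q : ℕ → Prop} {a b : ℕ} (hab : a ≤ b) (ha : Q a) (hb : ¬ Q b) :
    ∃ m, a ≤ m ∧ m < b ∧ Q m ∧ ¬ Q (m + 1) := by
  by_contra hcon
  push Not at hcon
  have : ∀ m, a ≤ m → m ≤ b → Q m := by
    intro m hm
    induction m, hm using Nat.le_induction with
    | base => intro _; exact ha
    | succ m hm ih => intro hmb; exact hcon m hm (by omega) (ih (by omega))
  exact hb (this b hab le_rfl)

theorem le_normalizer_of_card [Finite G] {p ℓ : ℕ} (hp : p.Prime) {H K : Subgroup G}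
    (hHK : H ≤ K) (hH : Nat.card H = p ^ ℓ) (hK : Nat.card K = p ^ (ℓ + 1)) :
    K ≤ Subgroup.normalizer (H : Set G) := by
  rw [← Subgroup.normal_subgroupOf_iff_le_normalizer hHK]
  apply Subgroup.normal_of_index_eq_minFac_card
  rw [hK, hp.pow_minFac (Nat.succ_ne_zero _)]
  have h1 := Subgroup.card_mul_index (H.subgroupOf K)
  have h2 : Nat.card (H.subgroupOf K) = Nat.card H :=
    Nat.card_congr (Subgroup.subgroupOfEquivOfLe hHK).toEquiv
  rw [h2, hH, hK, pow_succ] at h1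
  exact Nat.eq_of_mul_eq_mul_left (pow_pos hp.pos ℓ) h1

theorem le_of_squeeze [Finite G] {p ℓ : ℕ} (hp : p.Prime) {H C K : Subgroup G} (hHC : H ≤ C)
    (hCK : C ≤ K) (hH : Nat.card H = p ^ ℓ) (hK : Nat.card K = p ^ (ℓ + 1)) (hne : ¬ C ≤ H) :
    K ≤ C := by
  have h1 : Nat.card H ∣ Nat.card C := Subgroup.card_dvd_of_le hHC
  have h2 : Nat.card C ∣ Nat.card K := Subgroup.card_dvd_of_le hCK
  rw [hH] at h1
  rw [hK] at h2
  obtain ⟨k, hk, hk2⟩ := (Nat.dvd_prime_pow hp).mp h2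
  have h3 : ℓ ≤ k := by
    rw [hk2] at h1
    exact (Nat.pow_dvd_pow_iff_le_right hp.one_lt).mp h1
  have h4 : k ≠ ℓ := by
    rintro rfl
    apply hne
    have := Subgroup.eq_of_le_of_card_ge hHC (by rw [hH, hk2])
    exact this ▸ le_rfl
  have h5 : k = ℓ + 1 := by omega
  subst h5
  have := Subgroup.eq_of_le_of_card_ge hCK (by rw [hK, hk2])
  exact this ▸ le_rfl

section
variable [Finite G] {P : Subgroup G} {g : G} {p t : ℕ} {x : G}

theorem Qv_normal_left (hS : Sh P g p t) (a : ℤ) {ℓ : ℕ} (h : ℓ + 1 ≤ t) :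
    Qv P g t a (ℓ + 1) ≤ Subgroup.normalizer (Qv P g t a ℓ : Set G) :=
  le_normalizer_of_card hS.hp (Qv_mono le_rfl (by push_cast; omega)) (hS.card a ℓ (by omega))
    (hS.card a (ℓ + 1) h)

theorem Qv_normal_right (hS : Sh P g p t) (a : ℤ) {ℓ : ℕ} (h : ℓ + 1 ≤ t) :
    Qv P g t a (ℓ + 1) ≤ Subgroup.normalizer (Qv P g t (a + 1) ℓ : Set G) :=
  le_normalizer_of_card hS.hp (Qv_mono (by omega) (by push_cast; omega))
    (hS.card (a + 1) ℓ (by omega)) (hS.card a (ℓ + 1) h)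

theorem comm_mem (hS : Sh P g p t) (hx : x ∈ Qv P g t 0 1) (a : ℤ) {d : ℕ} (h : d + 2 ≤ t) :
    ⁅xs g x a, xs g x (a + d + 1)⁆ ∈ Qv P g t (a + 1) d := by
  rw [← Qv_inf a (by omega : d + 1 ≤ t)]
  have hu : xs g x a ∈ Qv P g t a (d + 1) := xs_mem_of_le hx le_rfl (by push_cast; omega)
  have hv : xs g x (a + d + 1) ∈ Qv P g t (a + 1) (d + 1) :=
    xs_mem_of_le hx (by omega) (by push_cast; omega)
  have hu' : xs g x a ∈ Qv P g t a (d + 1 + 1) := xs_mem_of_le hx le_rfl (by push_cast; omega)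
  have hv' : xs g x (a + d + 1) ∈ Qv P g t a (d + 1 + 1) :=
    xs_mem_of_le hx (by omega) (by push_cast; omega)
  have hN1 := Qv_normal_left hS a (ℓ := d + 1) (by omega)
  have hN2 := Qv_normal_right hS a (ℓ := d + 1) (by omega)
  refine ⟨?_, ?_⟩
  · have h1 := (Subgroup.mem_normalizer_iff.mp (hN1 hv') (xs g x a)⁻¹).mp (inv_mem hu)
    have e : ⁅xs g x a, xs g x (a + d + 1)⁆
        = xs g x a * (xs g x (a + d + 1) * (xs g x a)⁻¹ * (xs g x (a + d + 1))⁻¹) := by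
      rw [commutatorElement_def]; group
    rw [e]
    exact mul_mem hu h1
  · have h1 := (Subgroup.mem_normalizer_iff.mp (hN2 hu') (xs g x (a + d + 1))).mp hv
    have e : ⁅xs g x a, xs g x (a + d + 1)⁆
        = xs g x a * xs g x (a + d + 1) * (xs g x a)⁻¹ * (xs g x (a + d + 1))⁻¹ := by
      rw [commutatorElement_def]
    rw [e]
    exact (Qv P g t (a + 1) (d + 1)).mul_mem h1 (inv_mem hv)

end

theorem comm_commute_aux {u v y : G} (e1 : v * y = y * v)
    (e2 : v * (u⁻¹ * y * u) = (u⁻¹ * y * u) * v) : ⁅u, v⁆ * y = y * ⁅u, v⁆ := by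
  have e1' : v⁻¹ * y = y * v⁻¹ := by
    have : v⁻¹ * y = v⁻¹ * (y * v) * v⁻¹ := by group
    rw [this, ← e1]; group
  rw [commutatorElement_def]
  calc u * v * u⁻¹ * v⁻¹ * y = u * v * u⁻¹ * (v⁻¹ * y) := by group
    _ = u * v * u⁻¹ * (y * v⁻¹) := by rw [e1']
    _ = u * (v * (u⁻¹ * y * u)) * u⁻¹ * v⁻¹ := by group
    _ = u * ((u⁻¹ * y * u) * v) * u⁻¹ * v⁻¹ := by rw [e2]
    _ = y * (u * v * u⁻¹ * v⁻¹) := by group

/-- shunt situation together with a generator and the generation property -/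
structure Ctx (P : Subgroup G) (g : G) (p t : ℕ) (x : G) : Prop where
  sh : Sh P g p t
  hx : x ∈ Qv P g t 0 1
  hx1 : x ≠ 1
  gen : ∀ (a : ℤ) (ℓ : ℕ), ℓ ≤ t →
    Qv P g t a ℓ = Subgroup.closure {y | ∃ i : ℤ, a ≤ i ∧ i < a + ℓ ∧ y = xs g x i}

section
variable {P : Subgroup G} {g : G} {p t : ℕ} {x : G}

theorem Ctx.commute_of_gen (hC : Ctx P g p t x) {a : ℤ} {ℓ : ℕ} (hℓ : ℓ ≤ t) {z : G}
    (hz : ∀ i : ℤ, a ≤ i → i < a + ℓ → Commute z (xs g x i)) {y : G}
    (hy : y ∈ Qv P g t a ℓ) : Commute z y := by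
  rw [hC.gen a ℓ hℓ] at hy
  have hle : Subgroup.closure {y | ∃ i : ℤ, a ≤ i ∧ i < a + ℓ ∧ y = xs g x i}
      ≤ Subgroup.centralizer {z} := by
    rw [Subgroup.closure_le]
    rintro y ⟨i, hi1, hi2, rfl⟩
    rw [SetLike.mem_coe, Subgroup.mem_centralizer_iff]
    intro w hw
    rw [Set.mem_singleton_iff] at hw
    subst hw
    exact (hz i hi1 hi2).eq
  have := hle hy
  rw [Subgroup.mem_centralizer_iff] at this
  exact this z rfl

theorem mem_centralizer_singleton_of_commute {z y : G} (h : Commute z y) :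
    y ∈ Subgroup.centralizer {z} := by
  rw [Subgroup.mem_centralizer_iff]
  intro w hw
  rw [Set.mem_singleton_iff] at hw
  subst hw
  exact h.eq

theorem commute_of_mem_centralizer_singleton {z y : G} (h : y ∈ Subgroup.centralizer {z}) :
    Commute z y := by
  rw [Subgroup.mem_centralizer_iff] at h
  exact h z rfl

variable [Finite G]

theorem Ctx.claimA (hC : Ctx P g p t x) {lam mu k : ℕ} (hcm : Cm g x lam)
    (hnc : ¬ Commute (xs g x 0) (xs g x lam)) (hmu : 1 ≤ mu) (hk : mu + k + 1 = lam)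
    (hc1 : ⁅xs g x 0, xs g x lam⁆ ∈ Qv P g t mu (k + 1))
    (hc2 : ⁅xs g x 0, xs g x lam⁆ ∉ Qv P g t (mu + 1) k) : t ≤ lam + mu := by
  by_contra hlt
  push Not at hlt
  have hN := Qv_normal_right hC.sh 0 (ℓ := lam + mu) (by omega)
  have hx0 : xs g x 0 ∈ Qv P g t 0 (lam + mu + 1) :=
    xs_mem_of_le hC.hx le_rfl (by push_cast; omega)
  have hcen : ∀ y ∈ Qv P g t (0 + 1) (lam + mu), Commute (xs g x lam) y := fun y hy =>
    hC.commute_of_gen (by omega)
      (fun i hi1 hi2 => hcm.commute (by push_cast at hi2; omega) (by push_cast at hi2; omega)) hy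
  have hcc : ∀ y ∈ Qv P g t (0 + 1) (lam + mu), Commute ⁅xs g x 0, xs g x lam⁆ y := by
    intro y hy
    have hy' : (xs g x 0)⁻¹ * y * (xs g x 0) ∈ Qv P g t (0 + 1) (lam + mu) := by
      have := (Subgroup.mem_normalizer_iff.mp (hN (inv_mem hx0)) y).mp hy
      simpa using this
    exact comm_commute_aux (hcen y hy).eq (hcen _ hy').eq
  have h1 : Commute ⁅xs g x 0, xs g x lam⁆ (xs g x ((lam : ℤ) + mu)) :=
    hcc _ (xs_mem_of_le hC.hx (by omega) (by push_cast; omega))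
  have hsq := le_of_squeeze hC.sh.hp (H := Qv P g t (mu + 1) k)
    (C := Subgroup.centralizer {xs g x ((lam : ℤ) + mu)} ⊓ Qv P g t mu (k + 1))
    (K := Qv P g t mu (k + 1)) ?_ inf_le_right (hC.sh.card _ k (by omega))
    (hC.sh.card _ (k + 1) (by omega)) ?_
  · have h2 : xs g x mu ∈ Subgroup.centralizer {xs g x ((lam : ℤ) + mu)} :=
      (hsq (xs_mem_of_le hC.hx le_rfl (by push_cast; omega))).1
    have h3 := (commute_of_mem_centralizer_singleton h2).symm
    rw [commute_xs_shift] at h3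
    have e : (lam : ℤ) + mu - mu = lam := by ring
    rw [e] at h3
    exact hnc h3
  · refine le_inf ?_ (Qv_mono (by omega) (by push_cast; omega))
    intro y hy
    exact mem_centralizer_singleton_of_commute (hC.commute_of_gen (by omega)
      (fun i hi1 hi2 => hcm.commute (by omega) (by omega)) hy)
  · intro hle
    exact hc2 (hle ⟨mem_centralizer_singleton_of_commute h1.symm, hc1⟩)

theorem Ctx.claimB (hC : Ctx P g p t x) {lam nu j : ℕ} (hcm : Cm g x lam)
    (hnc : ¬ Commute (xs g x 0) (xs g x lam)) (hj : j + 1 = nu) (hnu : nu + 1 ≤ lam)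
    (hc1 : ⁅xs g x 0, xs g x lam⁆ ∈ Qv P g t 1 nu)
    (hc2 : ⁅xs g x 0, xs g x lam⁆ ∉ Qv P g t 1 j) : t + nu ≤ 2 * lam := by
  subst hj
  by_contra hlt
  push Not at hlt
  obtain ⟨m, hm⟩ : ∃ m, m + (j + 1) = 2 * lam := ⟨2 * lam - (j + 1), by omega⟩
  have hN := Qv_normal_left hC.sh (((j + 1 : ℕ) : ℤ) - lam) (ℓ := m) (by omega)
  have hxl : xs g x lam ∈ Qv P g t (((j + 1 : ℕ) : ℤ) - lam) (m + 1) :=
    xs_mem_of_le hC.hx (by omega) (by push_cast; omega)
  have hcen : ∀ y ∈ Qv P g t (((j + 1 : ℕ) : ℤ) - lam) m, Commute (xs g x 0) y := fun y hy =>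
    hC.commute_of_gen (by omega) (fun i hi1 hi2 => hcm.commute (by omega) (by omega)) hy
  have hcc : ∀ y ∈ Qv P g t (((j + 1 : ℕ) : ℤ) - lam) m,
      Commute ⁅xs g x 0, xs g x lam⁆ y := by
    intro y hy
    have hy' : (xs g x lam)⁻¹ * y * (xs g x lam) ∈ Qv P g t (((j + 1 : ℕ) : ℤ) - lam) m := by
      have := (Subgroup.mem_normalizer_iff.mp (hN (inv_mem hxl)) y).mp hy
      simpa using this
    have h2 : Commute ⁅xs g x lam, xs g x 0⁆ y :=
      comm_commute_aux (hcen y hy).eq (hcen _ hy').eq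
    rw [← commutatorElement_inv]
    exact h2.inv_left
  have h1 : Commute ⁅xs g x 0, xs g x lam⁆ (xs g x (((j + 1 : ℕ) : ℤ) - lam)) :=
    hcc _ (xs_mem_of_le hC.hx le_rfl (by omega))
  have hsq := le_of_squeeze hC.sh.hp (H := Qv P g t 1 j)
    (C := Subgroup.centralizer {xs g x (((j + 1 : ℕ) : ℤ) - lam)} ⊓ Qv P g t 1 (j + 1))
    (K := Qv P g t 1 (j + 1)) ?_ inf_le_right (hC.sh.card _ j (by omega))
    (hC.sh.card _ (j + 1) (by omega)) ?_
  · have h2 : xs g x ((j + 1 : ℕ) : ℤ) ∈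
        Subgroup.centralizer {xs g x (((j + 1 : ℕ) : ℤ) - lam)} :=
      (hsq (xs_mem_of_le hC.hx (by omega) (by omega))).1
    have h3 := commute_of_mem_centralizer_singleton h2
    rw [commute_xs_shift] at h3
    have e : ((j + 1 : ℕ) : ℤ) - (((j + 1 : ℕ) : ℤ) - lam) = lam := by ring
    rw [e] at h3
    exact hnc h3
  · refine le_inf ?_ (Qv_mono le_rfl (by push_cast; omega))
    intro y hy
    exact mem_centralizer_singleton_of_commute (hC.commute_of_gen (by omega)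
      (fun i hi1 hi2 => hcm.commute (by omega) (by omega)) hy)
  · intro hle
    exact hc2 (hle ⟨mem_centralizer_singleton_of_commute h1.symm, hc1⟩)

/-- **Core**: if `lam` is the first non-commuting distance then `2 t ≤ 3 lam`. -/
theorem Ctx.core (hC : Ctx P g p t x) {lam : ℕ} (h1 : 1 ≤ lam) (h2 : lam + 1 ≤ t)
    (hcm : Cm g x lam) (hnc : ¬ Commute (xs g x 0) (xs g x lam)) : 2 * t ≤ 3 * lam := by
  have hc1 : ⁅xs g x 0, xs g x lam⁆ ≠ 1 := fun h =>
    hnc (commutatorElement_eq_one_iff_commute.mp h)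
  have hcQ : ⁅xs g x 0, xs g x lam⁆ ∈ Qv P g t 1 (lam - 1) := by
    have := comm_mem hC.sh hC.hx 0 (d := lam - 1) (by omega)
    have e : (0 : ℤ) + ((lam - 1 : ℕ) : ℤ) + 1 = lam := by omega
    rw [e, zero_add] at this
    exact this
  -- mu
  obtain ⟨mu, hmu1, hmu2, hmu3, hmu4⟩ := exists_last
    (Q := fun m => ⁅xs g x 0, xs g x lam⁆ ∈ Qv P g t m (lam - m)) h1
    (by simpa using hcQ)
    (by
      intro h
      have e : Qv P g t lam (lam - lam) = ⊥ := by
        rw [Qv_congr rfl (Nat.sub_self lam)]; exact Qv_zero hC.sh _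
      rw [e, Subgroup.mem_bot] at h
      exact hc1 h)
  -- nu
  obtain ⟨j, -, hj2, hj3, hj4⟩ := exists_last
    (Q := fun m => ⁅xs g x 0, xs g x lam⁆ ∉ Qv P g t 1 m) (Nat.zero_le (lam - 1))
    (by
      intro h
      rw [Qv_zero hC.sh, Subgroup.mem_bot] at h
      exact hc1 h)
    (by simpa using hcQ)
  simp only [not_not] at hj4
  obtain ⟨k, hk⟩ : ∃ k, mu + k + 1 = lam := ⟨lam - mu - 1, by omega⟩
  have hA1 : ⁅xs g x 0, xs g x lam⁆ ∈ Qv P g t mu (k + 1) := by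
    rw [Qv_congr rfl (by omega : k + 1 = lam - mu)]; exact hmu3
  have hA2 : ⁅xs g x 0, xs g x lam⁆ ∉ Qv P g t (mu + 1) k := by
    rw [Qv_congr (by push_cast; ring : (mu : ℤ) + 1 = ((mu + 1 : ℕ) : ℤ))
      (by omega : k = lam - (mu + 1))]
    exact hmu4
  have eA := hC.claimA hcm hnc hmu1 hk hA1 hA2
  have eB := hC.claimB hcm hnc (rfl : j + 1 = j + 1) (by omega) hj4 hj3
  -- mu ≤ nu
  have hmn : mu ≤ j + 1 := by
    by_contra hlt
    push Not at hlt
    have hd := Qv_disj hC.sh (1 : ℤ) (ℓ₁ := mu - 1) (ℓ₂ := k + 1) (by omega)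
    have hm1 : ⁅xs g x 0, xs g x lam⁆ ∈ Qv P g t 1 (mu - 1) :=
      Qv_mono le_rfl (by omega) hj4
    have hm2 : ⁅xs g x 0, xs g x lam⁆ ∈ Qv P g t ((1 : ℤ) + ((mu - 1 : ℕ) : ℤ)) (k + 1) := by
      rw [Qv_congr (by omega : (1 : ℤ) + ((mu - 1 : ℕ) : ℤ) = mu) rfl]; exact hA1
    have : ⁅xs g x 0, xs g x lam⁆ ∈ (⊥ : Subgroup G) := by
      rw [← hd]; exact ⟨hm1, hm2⟩
    exact hc1 (Subgroup.mem_bot.mp this)
  omega

omit [Finite G] in
/-- **Centre bound**: if all distances `< lam` commute and `P ∩ Z(K) = 1` for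
`K = ⟨g^{-i} P g^{i} : i ≤ n⟩` then `2 lam ≤ t + n`. -/
theorem Ctx.center_bound (hC : Ctx P g p t x) {lam n : ℕ} (_h1 : 1 ≤ lam) (h2 : lam ≤ t)
    (hcm : Cm g x lam) (K : Subgroup G)
    (hK : K = ⨆ i ∈ Finset.range (n + 1), MulAut.conj (g ^ i)⁻¹ • P)
    (hZ : P ⊓ (Subgroup.center K).map K.subtype = ⊥) : 2 * lam ≤ t + n := by
  by_contra hlt
  push Not at hlt
  have hzP : xs g x ((t : ℤ) - lam) ∈ P := by
    have : xs g x ((t : ℤ) - lam) ∈ Qv P g t 0 t := xs_mem_of_le hC.hx (by omega) (by omega)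
    rwa [Qv_full] at this
  have hzc : ∀ j : ℤ, -(n : ℤ) ≤ j → j < t → Commute (xs g x ((t : ℤ) - lam)) (xs g x j) :=
    fun j hj1 hj2 => hcm.commute (by omega) (by omega)
  have hKle : K ≤ Subgroup.centralizer {xs g x ((t : ℤ) - lam)} := by
    rw [hK]
    refine iSup₂_le fun i hi => ?_
    intro y hy
    have hy' : y ∈ Qv P g t (-(i : ℤ)) t := by
      rw [mem_Qv]
      intro k hk1 hk2
      have : k = -(i : ℤ) := by omega
      subst this
      rw [Subgroup.mem_pointwise_smul_iff_inv_smul_mem] at hy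
      have e : (MulAut.conj (g ^ i)⁻¹)⁻¹ • y = g ^ i * y * (g ^ i)⁻¹ := by
        rw [MulAut.smul_def, ← map_inv, inv_inv, MulAut.conj_apply]
      rw [e] at hy
      simpa using hy
    have hi' := Finset.mem_range.mp hi
    exact mem_centralizer_singleton_of_commute (hC.commute_of_gen le_rfl
      (fun j hj1 hj2 => hzc j (by omega) (by omega)) hy')
  have hPK : P ≤ K := by
    rw [hK]
    have := le_iSup₂ (f := fun i (_ : i ∈ Finset.range (n + 1)) => MulAut.conj (g ^ i)⁻¹ • P) 0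
      (by simp)
    simpa using this
  have hmem : xs g x ((t : ℤ) - lam) ∈ P ⊓ (Subgroup.center K).map K.subtype := by
    refine ⟨hzP, ⟨⟨_, hPK hzP⟩, ?_, rfl⟩⟩
    rw [SetLike.mem_coe, Subgroup.mem_center_iff]
    rintro ⟨k, hk⟩
    apply Subtype.ext
    exact (commute_of_mem_centralizer_singleton (hKle hk)).eq.symm
  rw [hZ, Subgroup.mem_bot] at hmem
  exact xs_ne_one hC.hx1 _ hmem

end

end Cfsg.Agent.Lib.Helper49.Shunt
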