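import Cfsg.Agent.Lib.Helper49.Shunt.ShCore
import Cfsg.Agent.Lib.Helper45.ShuntGen

/-!
# Glauberman's shunt bound from the chain package
-/

namespace Cfsg.Agent.Lib.Helper49.Shunt

universe u

open Pointwise

/-- In a shunt situation of length `t` with `P ∩ Z(⟨g^{-i} P g^{i} : i ≤ n⟩) = 1`:
`t ≤ 3 n` and `t ≠ 3 n - 1`. -/
theorem bound_of_sh {G : Type u} [Group G] [Finite G] {P : Subgroup G} {g : G} {p t : ℕ}
    (hS : Sh P g p t) (n : ℕ) (hn : 1 ≤ n) (K : Subgroup G)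
    (hK : K = ⨆ i ∈ Finset.range (n + 1), MulAut.conj (g ^ i)⁻¹ • P)
    (h2 : P ⊓ (Subgroup.center K).map K.subtype = ⊥) :
    Nat.card P = p ^ t ∧ 1 ≤ t ∧ t ≤ 3 * n ∧ t ≠ 3 * n - 1 := by
  have hcard1 := hS.card 0 1 hS.ht
  obtain ⟨x, hx, hx1⟩ : ∃ x ∈ Qv P g t 0 1, x ≠ 1 := by
    by_contra hcon
    push Not at hcon
    have hbot : Qv P g t 0 1 = ⊥ := (Subgroup.eq_bot_iff_forall _).mpr hcon
    rw [hbot, Subgroup.card_bot, pow_one] at hcard1
    exact hS.hp.one_lt.ne hcard1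
  have hC : Ctx P g p t x :=
    ⟨hS, hx, hx1, Cfsg.Agent.Lib.Helper45.Shunt.lemGen G P g p t hS x hx hx1⟩
  refine ⟨?_, hS.ht, ?_⟩
  · have := hS.card 0 t le_rfl
    rwa [Qv_full] at this
  · by_cases hab : ∀ d : ℕ, 1 ≤ d → d < t → Commute (xs g x 0) (xs g x d)
    · have := hC.center_bound hS.ht le_rfl hab K hK h2
      omega
    · push Not at hab
      have hex : ∃ d, 1 ≤ d ∧ d < t ∧ ¬ Commute (xs g x 0) (xs g x d) := hab
      classical
      obtain ⟨hl1, hl2, hl3⟩ := Nat.find_spec hex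
      have hcm : Cm g x (Nat.find hex) := fun d hd1 hd2 => by
        by_contra hnc
        exact Nat.find_min hex hd2 ⟨hd1, by omega, hnc⟩
      have e1 := hC.core hl1 (by omega) hcm hl3
      have e2 := hC.center_bound hl1 (by omega) hcm K hK h2
      omega

/-- Glauberman's bound, given the chain package. -/
theorem glauberman_of_chain (hChain : LemChain.{u}) {G : Type u} [Group G] [Finite G]
    (P : Subgroup G) (g : G) (p : ℕ) (hp : p.Prime)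
    (hN : ((P ⊓ MulAut.conj g⁻¹ • P).subgroupOf (MulAut.conj g⁻¹ • P)).Normal)
    (hidx : (P ⊓ MulAut.conj g⁻¹ • P).relIndex (MulAut.conj g⁻¹ • P) = p)
    (n : ℕ) (hn : 1 ≤ n) (K : Subgroup G)
    (hK : K = ⨆ i ∈ Finset.range (n + 1), MulAut.conj (g ^ i)⁻¹ • P)
    (h1 : ∀ Q : Subgroup G, Q ≤ P → (Q.subgroupOf P).Normal → MulAut.conj g • Q = Q → Q = ⊥)
    (h2 : P ⊓ (Subgroup.center K).map K.subtype = ⊥) :
    ∃ t : ℕ, Nat.card P = p ^ t ∧ 1 ≤ t ∧ t ≤ 3 * n ∧ t ≠ 3 * n - 1 := by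
  obtain ⟨t, hS⟩ := hChain G P g p hp hN hidx h1
  exact ⟨t, bound_of_sh hS n hn K hK h2⟩

end Cfsg.Agent.Lib.Helper49.Shunt
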