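import Cfsg.Agent.Lib.Helper49.Shunt.ShDefs

/-!
# Sims' theorem (suborbit of length 3) — package statements

`LemSimsRed`: reduction of the permutation-group statement to a 2-group configuration `(D, g)`.
`LemSimsCore`: the 2-group configuration has order at most 16.
-/

namespace Cfsg.Agent.Lib.Helper49.Shunt

universe u v

open Pointwise

/-- (K6b) Sims core: in the 2-group configuration, `|D| = 2 ^ t` with `t ≤ 4`. -/
def LemSimsCore : Prop :=
  ∀ (G : Type u) [Group G] [Finite G] (D : Subgroup G) (g : G),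
    (D ⊓ MulAut.conj g⁻¹ • D).relIndex (MulAut.conj g⁻¹ • D) = 2 →
    (∀ Y : Subgroup G, Y ≤ D →
      D ⊔ MulAut.conj g⁻¹ • D ≤ Subgroup.normalizer (Y : Set G) →
      (MulAut.conj g • D ≤ Subgroup.normalizer (Y : Set G) ∨
        MulAut.conj (g ^ 2)⁻¹ • D ≤ Subgroup.normalizer (Y : Set G)) → Y = ⊥) →
    ∃ t : ℕ, t ≤ 4 ∧ Nat.card D = 2 ^ t

/-- (K6a) Sims reduction: a primitive group with a suborbit of length 3 has point stabilizer of
order 3, or of order `3 * |D|` for a 2-group configuration `(D, g)`. -/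
def LemSimsRed : Prop :=
  ∀ (G : Type u) [Group G] [Finite G] (Ω : Type v) [MulAction G Ω] [FaithfulSMul G Ω],
    MulAction.IsPreprimitive G Ω → ∀ a b : Ω,
    Nat.card (MulAction.orbit (MulAction.stabilizer G a) b) = 3 →
    Nat.card (MulAction.stabilizer G a) = 3 ∨
    ∃ (D : Subgroup G) (g : G), Nat.card (MulAction.stabilizer G a) = 3 * Nat.card D ∧
      (D ⊓ MulAut.conj g⁻¹ • D).relIndex (MulAut.conj g⁻¹ • D) = 2 ∧
      (∀ Y : Subgroup G, Y ≤ D →
        D ⊔ MulAut.conj g⁻¹ • D ≤ Subgroup.normalizer (Y : Set G) →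
        (MulAut.conj g • D ≤ Subgroup.normalizer (Y : Set G) ∨
          MulAut.conj (g ^ 2)⁻¹ • D ≤ Subgroup.normalizer (Y : Set G)) → Y = ⊥)

/-- Sims' theorem from the two packages. -/
theorem sims_of_packages (hRed : LemSimsRed.{u, v}) (hCore : LemSimsCore.{u})
    {G : Type u} [Group G] [Finite G] {Ω : Type v} [MulAction G Ω] [FaithfulSMul G Ω]
    (hprim : MulAction.IsPreprimitive G Ω) (a b : Ω)
    (h3 : Nat.card (MulAction.orbit (MulAction.stabilizer G a) b) = 3) :
    ∃ k : ℕ, k ≤ 4 ∧ Nat.card ↥(MulAction.stabilizer G a) = 2 ^ k * 3 := by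
  rcases hRed G Ω hprim a b h3 with h | ⟨D, g, hc, hidx, hY⟩
  · exact ⟨0, by omega, by rw [h]; norm_num⟩
  · obtain ⟨t, ht, hD⟩ := hCore G D g hidx hY
    exact ⟨t, ht, by rw [hc, hD, mul_comm]⟩

end Cfsg.Agent.Lib.Helper49.Shunt
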