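import Cfsg.Agent.Lib.Helper49.Shunt.ShMain
import Cfsg.Agent.Lib.Helper49.Shunt.SimsDefs

/-!
# Sims' theorem — the 2-group core (`LemSimsCore`), given the chain package
-/

namespace Cfsg.Agent.Lib.Helper49.Shunt

universe u

open Pointwise
open scoped commutatorElement

variable {G : Type*} [Group G]

theorem le_normalizer_of_central {K Y : Subgroup G}
    (h : ∀ k ∈ K, ∀ y ∈ Y, k * y = y * k) : K ≤ Subgroup.normalizer (Y : Set G) := by
  intro k hk
  rw [Subgroup.mem_normalizer_iff]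
  intro y
  constructor
  · intro hy
    have := h k hk y hy
    rw [this, mul_inv_cancel_right]
    exact hy
  · intro hy
    have h1 := h k hk _ hy
    have h2 : k * (k * y * k⁻¹) = k * y := by rw [h1]; group
    have e : y = k * y * k⁻¹ := (mul_left_cancel h2).symm
    rw [e]
    exact hy

theorem mem_normalizer_of_gens [Finite G] {Y : Subgroup G} {S : Set G}
    (hYS : Y = Subgroup.closure S) {u : G} (h : ∀ s ∈ S, u * s * u⁻¹ ∈ Y) :
    u ∈ Subgroup.normalizer (Y : Set G) := by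
  have hmap : Y.map (MulAut.conj u).toMonoidHom ≤ Y := by
    conv_lhs => rw [hYS]
    rw [MonoidHom.map_closure, Subgroup.closure_le]
    rintro _ ⟨s, hs, rfl⟩
    exact h s hs
  have heq : Y.map (MulAut.conj u).toMonoidHom = Y := by
    apply Subgroup.eq_of_le_of_card_ge hmap
    rw [Subgroup.card_map_of_injective (MulAut.conj u).injective]
  rw [Subgroup.mem_normalizer_iff]
  intro y
  constructor
  · intro hy
    exact hmap ⟨y, hy, rfl⟩
  · intro hy
    rw [← heq] at hy
    obtain ⟨z, hz, hzy⟩ := hy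
    have hzy' : u * z * u⁻¹ = u * y * u⁻¹ := hzy
    have : z = y := by simpa using hzy'
    exact this ▸ hz

theorem mul_self_of_card_two {H : Subgroup G} [Finite H] (h : Nat.card H = 2) {y : G}
    (hy : y ∈ H) : y * y = 1 := by
  have := pow_card_eq_one' (G := H) (x := ⟨y, hy⟩)
  rw [h] at this
  have h2 := congrArg Subtype.val this
  simpa [pow_two] using h2

theorem eq_of_card_two {H : Subgroup G} (h : Nat.card H = 2) {y z : G} (hy : y ∈ H)
    (hz : z ∈ H) (hy1 : y ≠ 1) (hz1 : z ≠ 1) : y = z := by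
  obtain ⟨w, -, hw⟩ := (Nat.card_eq_two_iff' (1 : H)).mp h
  have e1 := hw ⟨y, hy⟩ (by intro e; exact hy1 (congrArg Subtype.val e))
  have e2 := hw ⟨z, hz⟩ (by intro e; exact hz1 (congrArg Subtype.val e))
  exact congrArg Subtype.val (e1.trans e2.symm)

theorem exists_ctx {G : Type u} [Group G] [Finite G] {P : Subgroup G} {g : G} {p t : ℕ}
    (hS : Sh P g p t) : ∃ x, Ctx P g p t x := by
  have hcard1 := hS.card 0 1 hS.ht
  obtain ⟨x, hx, hx1⟩ : ∃ x ∈ Qv P g t 0 1, x ≠ 1 := by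
    by_contra hcon
    push Not at hcon
    have hbot : Qv P g t 0 1 = ⊥ := (Subgroup.eq_bot_iff_forall _).mpr hcon
    rw [hbot, Subgroup.card_bot, pow_one] at hcard1
    exact hS.hp.one_lt.ne hcard1
  exact ⟨x, hS, hx, hx1, Cfsg.Agent.Lib.Helper45.Shunt.lemGen G P g p t hS x hx hx1⟩

theorem smul_eq_Qv (P : Subgroup G) (g : G) (t : ℕ) (k : ℤ) :
    MulAut.conj (g ^ k) • P = Qv P g t k t := by
  ext y
  rw [Subgroup.mem_pointwise_smul_iff_inv_smul_mem, mem_Qv]
  have e : (MulAut.conj (g ^ k))⁻¹ • y = (g ^ k)⁻¹ * y * g ^ k := by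
    rw [MulAut.smul_def, ← map_inv, MulAut.conj_apply, inv_inv]
  rw [e]
  constructor
  · intro h i hi1 hi2
    have : i = k := by omega
    subst this
    exact h
  · intro h
    exact h k (by omega) le_rfl

theorem comm_xs_add (g x : G) (i a b : ℤ) :
    ⁅xs g x (i + a), xs g x (i + b)⁆ = g ^ i * ⁅xs g x a, xs g x b⁆ * (g ^ i)⁻¹ := by
  rw [xs_add, xs_add, commutatorElement_def, commutatorElement_def]
  group

theorem Qv_conj' {P : Subgroup G} {g : G} {t : ℕ} {a : ℤ} {ℓ : ℕ} (k : ℤ) {y : G}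
    (hy : y ∈ Qv P g t a ℓ) : g ^ k * y * (g ^ k)⁻¹ ∈ Qv P g t (k + a) ℓ := by
  rw [add_comm]
  exact (Qv_conj k).mpr hy

theorem comm_inv_trick_left {u w : G} (hu : u * u = 1) (hv : ⁅u, w⁆ * ⁅u, w⁆ = 1) :
    Commute u ⁅u, w⁆ := by
  have hu' : u⁻¹ = u := inv_eq_of_mul_eq_one_left hu
  have hv' : ⁅u, w⁆⁻¹ = ⁅u, w⁆ := inv_eq_of_mul_eq_one_left hv
  show u * ⁅u, w⁆ = ⁅u, w⁆ * u
  have e1 : u * ⁅u, w⁆ = (u * u) * w * u⁻¹ * w⁻¹ := by rw [commutatorElement_def]; group
  have e2 : ⁅u, w⁆⁻¹ * u = w * u * w⁻¹ := by rw [commutatorElement_def]; group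
  rw [e1, hu, one_mul, hu', ← e2, hv']

theorem comm_inv_trick_right {u w : G} (hw : w * w = 1) (hv : ⁅u, w⁆ * ⁅u, w⁆ = 1) :
    Commute w ⁅u, w⁆ := by
  have hw' : w⁻¹ = w := inv_eq_of_mul_eq_one_left hw
  have hv' : ⁅u, w⁆⁻¹ = ⁅u, w⁆ := inv_eq_of_mul_eq_one_left hv
  show w * ⁅u, w⁆ = ⁅u, w⁆ * w
  have e1 : w * ⁅u, w⁆⁻¹ = (w * w) * u * w⁻¹ * u⁻¹ := by rw [commutatorElement_def]; group
  have e2 : ⁅u, w⁆ * w = u * w * u⁻¹ := by rw [commutatorElement_def]; group
  rw [e2, ← hv', e1, hw, one_mul, hw']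

section
variable {P : Subgroup G} {g : G} {p t : ℕ} {x : G}

theorem Ctx.commute_interval (hC : Ctx P g p t x) {lam : ℕ} (hcm : Cm g x lam) {a : ℤ}
    {ℓ : ℕ} (hℓ : ℓ ≤ lam) (hℓt : ℓ ≤ t) {y z : G} (hy : y ∈ Qv P g t a ℓ)
    (hz : z ∈ Qv P g t a ℓ) : Commute y z := by
  have h1 : ∀ i : ℤ, a ≤ i → i < a + ℓ → Commute z (xs g x i) := fun i hi1 hi2 =>
    (hC.commute_of_gen hℓt (fun j hj1 hj2 => hcm.commute (by omega) (by omega)) hz).symm
  exact (hC.commute_of_gen hℓt h1 hy).symm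

theorem Ctx.xs_mul_self [Finite G] (hC : Ctx P g 2 t x) (i : ℤ) : xs g x i * xs g x i = 1 := by
  have h := hC.sh.card i 1 hC.sh.ht
  rw [pow_one] at h
  exact mul_self_of_card_two h (xs_mem hC.hx i)

theorem Ctx.mul_self_of_mem [Finite G] (hC : Ctx P g 2 t x) {lam : ℕ} (hcm : Cm g x lam)
    {a : ℤ} {ℓ : ℕ} (hℓ : ℓ ≤ lam) (hℓt : ℓ ≤ t) {y : G} (hy : y ∈ Qv P g t a ℓ) :
    y * y = 1 := by
  have key : ∀ y ∈ Subgroup.closure {y | ∃ i : ℤ, a ≤ i ∧ i < a + ℓ ∧ y = xs g x i},
      y ∈ Qv P g t a ℓ ∧ y * y = 1 := by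
    intro y hy
    induction hy using Subgroup.closure_induction with
    | mem y hy =>
      obtain ⟨i, hi1, hi2, rfl⟩ := hy
      exact ⟨xs_mem_of_le hC.hx hi1 hi2, hC.xs_mul_self i⟩
    | one => exact ⟨one_mem _, by simp⟩
    | mul y z _ _ ihy ihz =>
      refine ⟨mul_mem ihy.1 ihz.1, ?_⟩
      have hc := (hC.commute_interval hcm hℓ hℓt ihy.1 ihz.1).eq
      calc y * z * (y * z) = y * (z * y) * z := by group
        _ = y * (y * z) * z := by rw [hc]
        _ = (y * y) * (z * z) := by group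
        _ = 1 := by rw [ihy.2, ihz.2, mul_one]
    | inv y _ ih => exact ⟨inv_mem ih.1, by rw [← mul_inv_rev, ih.2, inv_one]⟩
  rw [hC.gen a ℓ hℓt] at hy
  exact (key y hy).2

end

/-- In the Sims configuration, `t = 6` is impossible. -/
theorem Ctx.not_six [Finite G] {D : Subgroup G} {g x : G} (hC : Ctx D g 2 6 x)
    (hcm : Cm g x 4) (hnc : ¬ Commute (xs g x 0) (xs g x 4))
    (hY : ∀ Y : Subgroup G, Y ≤ D →
      D ⊔ MulAut.conj g⁻¹ • D ≤ Subgroup.normalizer (Y : Set G) →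
      (MulAut.conj g • D ≤ Subgroup.normalizer (Y : Set G) ∨
        MulAut.conj (g ^ 2)⁻¹ • D ≤ Subgroup.normalizer (Y : Set G)) → Y = ⊥) : False := by
  have hS := hC.sh
  have hcomm : ∀ i j : ℤ, i - j < 4 → j - i < 4 → Commute (xs g x i) (xs g x j) :=
    fun i j h1 h2 => hcm.commute (by omega) (by omega)
  have hinv : ∀ i : ℤ, xs g x i * xs g x i = 1 := fun i => hC.xs_mul_self i
  have hc1 : ⁅xs g x 0, xs g x 4⁆ ≠ 1 := fun h =>
    hnc (commutatorElement_eq_one_iff_commute.mp h)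
  have hc13 : ⁅xs g x 0, xs g x 4⁆ ∈ Qv D g 6 1 3 := by
    have := comm_mem hS hC.hx 0 (d := 3) (by norm_num)
    norm_num at this
    exact this
  have hcA : ⁅xs g x 0, xs g x 4⁆ ∈ Qv D g 6 2 2 := by
    by_contra h
    have := hC.claimA (lam := 4) (mu := 1) (k := 2) hcm hnc le_rfl rfl hc13 h
    omega
  have hcB : ⁅xs g x 0, xs g x 4⁆ ∈ Qv D g 6 1 2 := by
    by_contra h
    have := hC.claimB (lam := 4) (nu := 3) (j := 2) hcm hnc rfl (by norm_num) hc13 h
    omega
  have hc21 : ⁅xs g x 0, xs g x 4⁆ ∈ Qv D g 6 2 1 := by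
    have := Qv_inf (P := D) (g := g) (t := 6) 1 (ℓ := 1) (by norm_num)
    have h2 : ⁅xs g x 0, xs g x 4⁆ ∈ Qv D g 6 1 (1 + 1) ⊓ Qv D g 6 (1 + 1) (1 + 1) :=
      ⟨hcB, hcA⟩
    rw [this] at h2
    exact h2
  have hc2 : ⁅xs g x 0, xs g x 4⁆ = xs g x 2 :=
    eq_of_card_two (by simpa using hS.card 2 1 (by norm_num)) hc21 (xs_mem hC.hx 2) hc1
      (xs_ne_one hC.hx1 2)
  have hG2 : ∀ i : ℤ, ⁅xs g x i, xs g x (i + 4)⁆ = xs g x (i + 2) := by
    intro i
    have := comm_xs_add g x i 0 4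
    rw [add_zero] at this
    rw [this, hc2, ← xs_add]
  have hv14 : ⁅xs g x 0, xs g x 5⁆ ∈ Qv D g 6 1 4 := by
    have := comm_mem hS hC.hx 0 (d := 4) (by norm_num)
    norm_num at this
    exact this
  have hvsq : ⁅xs g x 0, xs g x 5⁆ * ⁅xs g x 0, xs g x 5⁆ = 1 :=
    hC.mul_self_of_mem hcm (by norm_num) (by norm_num) hv14
  have hv0 : Commute (xs g x 0) ⁅xs g x 0, xs g x 5⁆ := comm_inv_trick_left (hinv 0) hvsq
  have hv5 : Commute (xs g x 5) ⁅xs g x 0, xs g x 5⁆ := comm_inv_trick_right (hinv 5) hvsq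
  have hv13 : ⁅xs g x 0, xs g x 5⁆ ∈ Qv D g 6 1 3 := by
    by_contra h
    have hsq := le_of_squeeze hS.hp (H := Qv D g 6 1 3)
      (C := Subgroup.centralizer {xs g x 0} ⊓ Qv D g 6 1 4) (K := Qv D g 6 1 4) ?_
      inf_le_right (hS.card _ 3 (by norm_num)) (hS.card _ 4 (by norm_num)) ?_
    · have h4 : xs g x 4 ∈ Subgroup.centralizer {xs g x 0} :=
        (hsq (xs_mem_of_le hC.hx (by norm_num) (by norm_num))).1
      exact hnc (commute_of_mem_centralizer_singleton h4)
    · refine le_inf ?_ (Qv_mono le_rfl (by norm_num))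
      intro y hy
      exact mem_centralizer_singleton_of_commute (hC.commute_of_gen (by norm_num)
        (fun i hi1 hi2 => hcomm 0 i (by omega) (by omega)) hy)
    · intro hle
      exact h (hle ⟨mem_centralizer_singleton_of_commute hv0, hv14⟩)
  have hv23 : ⁅xs g x 0, xs g x 5⁆ ∈ Qv D g 6 2 3 := by
    by_contra h
    have hsq := le_of_squeeze hS.hp (H := Qv D g 6 2 3)
      (C := Subgroup.centralizer {xs g x 5} ⊓ Qv D g 6 1 4) (K := Qv D g 6 1 4) ?_
      inf_le_right (hS.card _ 3 (by norm_num)) (hS.card _ 4 (by norm_num)) ?_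
    · have h1 : xs g x 1 ∈ Subgroup.centralizer {xs g x 5} :=
        (hsq (xs_mem_of_le hC.hx (by norm_num) (by norm_num))).1
      have h2 := (commute_of_mem_centralizer_singleton h1).symm
      rw [commute_xs_shift] at h2
      norm_num at h2
      exact hnc h2
    · refine le_inf ?_ (Qv_mono (by norm_num) (by norm_num))
      intro y hy
      exact mem_centralizer_singleton_of_commute (hC.commute_of_gen (by norm_num)
        (fun i hi1 hi2 => hcomm 5 i (by omega) (by omega)) hy)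
    · intro hle
      exact h (hle ⟨mem_centralizer_singleton_of_commute hv5, hv14⟩)
  have hv22 : ⁅xs g x 0, xs g x 5⁆ ∈ Qv D g 6 2 2 := by
    have := Qv_inf (P := D) (g := g) (t := 6) 1 (ℓ := 2) (by norm_num)
    have h2 : ⁅xs g x 0, xs g x 5⁆ ∈ Qv D g 6 1 (2 + 1) ⊓ Qv D g 6 (1 + 1) (2 + 1) :=
      ⟨hv13, hv23⟩
    rw [this] at h2
    exact h2
  have hG3 : ∀ i : ℤ, ⁅xs g x i, xs g x (i + 5)⁆ ∈ Qv D g 6 (i + 2) 2 := by
    intro i
    have := comm_xs_add g x i 0 5
    rw [add_zero] at this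
    rw [this]
    exact Qv_conj' i hv22
  have hYgen := hC.gen 1 4 (by norm_num)
  have hnorm : ∀ j : ℤ, -1 ≤ j → j ≤ 6 →
      xs g x j ∈ Subgroup.normalizer (Qv D g 6 1 4 : Set G) := by
    intro j hj1 hj2
    have hcases : j = -1 ∨ j = 0 ∨ (1 ≤ j ∧ j ≤ 4) ∨ j = 5 ∨ j = 6 := by omega
    rcases hcases with rfl | rfl | ⟨h1, h4⟩ | rfl | rfl
    · apply mem_normalizer_of_gens hYgen
      rintro s ⟨i, hi1, hi2, rfl⟩
      have hmem : xs g x i ∈ Qv D g 6 1 4 := xs_mem_of_le hC.hx hi1 hi2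
      have e : xs g x (-1) * xs g x i * (xs g x (-1))⁻¹ = ⁅xs g x (-1), xs g x i⁆ * xs g x i := by
        rw [commutatorElement_def]; group
      rw [e]
      refine mul_mem ?_ hmem
      have hi : i = 1 ∨ i = 2 ∨ i = 3 ∨ i = 4 := by omega
      rcases hi with rfl | rfl | rfl | rfl
      · rw [commutatorElement_eq_one_iff_commute.mpr (hcomm _ _ (by norm_num) (by norm_num))]
        exact one_mem _
      · rw [commutatorElement_eq_one_iff_commute.mpr (hcomm _ _ (by norm_num) (by norm_num))]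
        exact one_mem _
      · have := hG2 (-1)
        norm_num at this
        rw [this]
        exact xs_mem_of_le hC.hx (by norm_num) (by norm_num)
      · have := hG3 (-1)
        norm_num at this
        exact Qv_mono (by norm_num) (by norm_num) this
    · have := Qv_normal_right hS 0 (ℓ := 4) (by norm_num)
      exact this (xs_mem_of_le hC.hx le_rfl (by norm_num))
    · exact Subgroup.le_normalizer (xs_mem_of_le hC.hx h1 (by omega))
    · have := Qv_normal_left hS 1 (ℓ := 4) (by norm_num)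
      exact this (xs_mem_of_le hC.hx (by norm_num) (by norm_num))
    · apply mem_normalizer_of_gens hYgen
      rintro s ⟨i, hi1, hi2, rfl⟩
      have hmem : xs g x i ∈ Qv D g 6 1 4 := xs_mem_of_le hC.hx hi1 hi2
      have e : xs g x 6 * xs g x i * (xs g x 6)⁻¹ = ⁅xs g x 6, xs g x i⁆ * xs g x i := by
        rw [commutatorElement_def]; group
      rw [e]
      refine mul_mem ?_ hmem
      have hi : i = 1 ∨ i = 2 ∨ i = 3 ∨ i = 4 := by omega
      rcases hi with rfl | rfl | rfl | rfl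
      · rw [← commutatorElement_inv]
        apply inv_mem
        have := hG3 1
        norm_num at this
        exact Qv_mono (by norm_num) (by norm_num) this
      · rw [← commutatorElement_inv]
        apply inv_mem
        have := hG2 2
        norm_num at this
        rw [this]
        exact xs_mem_of_le hC.hx (by norm_num) (by norm_num)
      · rw [commutatorElement_eq_one_iff_commute.mpr (hcomm _ _ (by norm_num) (by norm_num))]
        exact one_mem _
      · rw [commutatorElement_eq_one_iff_commute.mpr (hcomm _ _ (by norm_num) (by norm_num))]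
        exact one_mem _
  have hQle : ∀ k : ℤ, -1 ≤ k → k ≤ 1 →
      Qv D g 6 k 6 ≤ Subgroup.normalizer (Qv D g 6 1 4 : Set G) := by
    intro k hk1 hk2
    rw [hC.gen k 6 le_rfl, Subgroup.closure_le]
    rintro s ⟨i, hi1, hi2, rfl⟩
    exact hnorm i (by omega) (by omega)
  have hYD : Qv D g 6 1 4 ≤ D := by
    have h := Qv_mono (P := D) (g := g) (t := 6) (a := 1) (a' := 0) (ℓ := 4) (ℓ' := 6)
      (by norm_num) (by norm_num)
    rwa [Qv_full] at h
  have hYbot : Qv D g 6 1 4 = ⊥ := by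
    apply hY _ hYD
    · refine sup_le ?_ ?_
      · have := hQle 0 (by norm_num) (by norm_num)
        rwa [Qv_full] at this
      · have := hQle (-1) (by norm_num) (by norm_num)
        rwa [← smul_eq_Qv, zpow_neg_one] at this
    · left
      have := hQle 1 (by norm_num) (by norm_num)
      rwa [← smul_eq_Qv, zpow_one] at this
  have hcard := hS.card 1 4 (by norm_num)
  rw [hYbot, Subgroup.card_bot] at hcard
  norm_num at hcard

/-- (K6b) from the chain package. -/
theorem lemSimsCore_of_chain (hChain : LemChain.{u}) : LemSimsCore.{u} := by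
  intro G _ _ D g hidx hY
  have hN : ((D ⊓ MulAut.conj g⁻¹ • D).subgroupOf (MulAut.conj g⁻¹ • D)).Normal :=
    Subgroup.normal_of_index_eq_two hidx
  have h1 : ∀ Q : Subgroup G, Q ≤ D → (Q.subgroupOf D).Normal → MulAut.conj g • Q = Q →
      Q = ⊥ := by
    intro Q hQD hQn hQg
    have hDn : D ≤ Subgroup.normalizer (Q : Set G) :=
      (Subgroup.normal_subgroupOf_iff_le_normalizer hQD).mp hQn
    have hgn : g ∈ Subgroup.normalizer (Q : Set G) := by
      rw [Subgroup.mem_normalizer_iff]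
      intro h
      constructor
      · intro hh
        have := Subgroup.smul_mem_pointwise_smul h (MulAut.conj g) Q hh
        rw [hQg] at this
        exact this
      · intro hh
        rw [← hQg] at hh
        exact (Subgroup.smul_mem_pointwise_smul_iff (a := MulAut.conj g)).mp hh
    have hconj : ∀ u : G, u ∈ Subgroup.normalizer (Q : Set G) →
        MulAut.conj u • D ≤ Subgroup.normalizer (Q : Set G) := by
      intro u hu y hy
      obtain ⟨d, hd, rfl⟩ := hy
      show u * d * u⁻¹ ∈ _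
      exact mul_mem (mul_mem hu (hDn hd)) (inv_mem hu)
    exact hY Q hQD (sup_le hDn (hconj g⁻¹ (inv_mem hgn))) (Or.inl (hconj g hgn))
  obtain ⟨t, hS⟩ := hChain G D g 2 Nat.prime_two hN hidx h1
  obtain ⟨K, hK⟩ : ∃ K : Subgroup G,
      K = ⨆ i ∈ Finset.range (2 + 1), MulAut.conj (g ^ i)⁻¹ • D := ⟨_, rfl⟩
  have h2 : D ⊓ (Subgroup.center K).map K.subtype = ⊥ := by
    have hKn : K ≤ Subgroup.normalizer
        ((D ⊓ (Subgroup.center K).map K.subtype : Subgroup G) : Set G) := by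
      apply le_normalizer_of_central
      rintro k hk y ⟨-, ⟨z, hz, rfl⟩⟩
      have := Subgroup.mem_center_iff.mp hz ⟨k, hk⟩
      exact congrArg Subtype.val this
    have hle : ∀ i ∈ Finset.range (2 + 1), MulAut.conj (g ^ i)⁻¹ • D ≤ K := fun i hi => by
      rw [hK]
      exact le_iSup₂ (f := fun i (_ : i ∈ Finset.range (2 + 1)) => MulAut.conj (g ^ i)⁻¹ • D)
        i hi
    have h0 : D ≤ K := by simpa using hle 0 (by simp)
    have h1' : MulAut.conj g⁻¹ • D ≤ K := by simpa using hle 1 (by simp)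
    have h2' : MulAut.conj (g ^ 2)⁻¹ • D ≤ K := hle 2 (by simp)
    exact hY _ inf_le_left (sup_le (h0.trans hKn) (h1'.trans hKn)) (Or.inr (h2'.trans hKn))
  obtain ⟨hcard, ht1, ht6, ht5⟩ := bound_of_sh hS 2 (by norm_num) K hK h2
  refine ⟨t, ?_, hcard⟩
  by_contra ht4
  have ht : t = 6 := by omega
  subst ht
  obtain ⟨x, hC⟩ := exists_ctx hS
  by_cases hab : ∀ d : ℕ, 1 ≤ d → d < 6 → Commute (xs g x 0) (xs g x d)
  · have := hC.center_bound (lam := 6) (by norm_num) le_rfl hab K hK h2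
    omega
  · push Not at hab
    have hex : ∃ d : ℕ, 1 ≤ d ∧ d < 6 ∧ ¬ Commute (xs g x 0) (xs g x d) := hab
    classical
    obtain ⟨hl1, hl2, hl3⟩ := Nat.find_spec hex
    have hcm : Cm g x (Nat.find hex) := fun d hd1 hd2 => by
      by_contra hnc
      exact Nat.find_min hex hd2 ⟨hd1, by omega, hnc⟩
    have e1 := hC.core hl1 (by omega) hcm hl3
    have e2 := hC.center_bound hl1 (by omega) hcm K hK h2
    have e4 : Nat.find hex = 4 := by omega
    rw [e4] at hcm hl3
    exact hC.not_six hcm (by simpa using hl3) hY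

end Cfsg.Agent.Lib.Helper49.Shunt
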