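import Cfsg.Agent.Lib.Helper49.Shunt.SimsRedDefs
import Cfsg.Agent.Lib.Helper49.Shunt.SimsCore
import Cfsg.Agent.Lib.Helper49.CharP
import Cfsg.Agent.Lib.Helper11.ShuntChain

/-!
# Sims' theorem — the abstract reduction `LemSimsRedAbs`, given `LemOddCore`
-/

namespace Cfsg.Agent.Lib.Helper49.Shunt

universe u

open Pointwise
open Cfsg.Agent.Lib.Helper11.Shunt (card_mulAut_smul card_mul_relIndex_of_le)

variable {G : Type*} [Group G]

theorem mem_normalizer_of_conj_smul_eq {Q : Subgroup G} {c : G}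
    (h : MulAut.conj c • Q = Q) : c ∈ Subgroup.normalizer (Q : Set G) := by
  rw [Subgroup.mem_normalizer_iff]
  intro y
  constructor
  · intro hy
    have := Subgroup.smul_mem_pointwise_smul y (MulAut.conj c) Q hy
    rw [h] at this
    exact this
  · intro hy
    rw [← h] at hy
    exact (Subgroup.smul_mem_pointwise_smul_iff (a := MulAut.conj c)).mp hy

theorem sup_eq_of_card_three [Finite G] {D D' N : Subgroup G} (hDN : D ≤ N) (hD'N : D' ≤ N)
    (hcard : Nat.card N = 3 * Nat.card D) (hne : ¬ D' ≤ D) : D ⊔ D' = N := by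
  have h1 : Nat.card D ∣ Nat.card (D ⊔ D' : Subgroup G) := Subgroup.card_dvd_of_le le_sup_left
  have h2 : Nat.card (D ⊔ D' : Subgroup G) ∣ Nat.card N :=
    Subgroup.card_dvd_of_le (sup_le hDN hD'N)
  have hpos : 0 < Nat.card D := Nat.card_pos
  obtain ⟨q, hq⟩ := h1
  rw [hq, hcard, mul_comm 3, Nat.mul_dvd_mul_iff_left hpos] at h2
  have hq3 : q = 1 ∨ q = 3 := (Nat.dvd_prime Nat.prime_three).mp h2
  rcases hq3 with rfl | rfl
  · exfalso
    apply hne
    have hle : D ⊔ D' ≤ D := by
      have := Subgroup.eq_of_le_of_card_ge (le_sup_left : D ≤ D ⊔ D') (by rw [hq, mul_one])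
      exact this.symm.le
    exact le_sup_right.trans hle
  · exact Subgroup.eq_of_le_of_card_ge (sup_le hDN hD'N) (by rw [hq, hcard, mul_comm])

theorem isCoatom_conj_smul [Finite G] {M : Subgroup G} (hco : IsCoatom M) (c : G) :
    IsCoatom (MulAut.conj c • M) := by
  refine ⟨?_, ?_⟩
  · intro e
    apply hco.1
    rw [← Subgroup.card_eq_iff_eq_top, ← card_mulAut_smul (MulAut.conj c) M, e,
      Subgroup.card_top]
  · intro X hX
    have h1 : M ≤ (MulAut.conj c)⁻¹ • X := by
      rw [← Subgroup.pointwise_smul_le_pointwise_smul_iff (a := MulAut.conj c), smul_inv_smul]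
      exact hX.le
    have h2 : ¬ (MulAut.conj c)⁻¹ • X ≤ M := by
      intro hle
      apply hX.not_ge
      rw [← Subgroup.pointwise_smul_le_pointwise_smul_iff (a := (MulAut.conj c)⁻¹),
        inv_smul_smul]
      exact hle
    have h3 := hco.2 _ (lt_of_le_not_ge h1 h2)
    rw [← Subgroup.card_eq_iff_eq_top, card_mulAut_smul] at h3
    exact (Subgroup.card_eq_iff_eq_top _).mp h3

/-- (R2) the abstract reduction, given (R1). -/
theorem lemSimsRedAbs_of (hOdd : LemOddCore.{u}) : LemSimsRedAbs.{u} := by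
  intro G _ _ M h hco hcore hidx
  classical
  obtain ⟨N, hN⟩ : ∃ N : Subgroup G, N = MulAut.conj h • M := ⟨_, rfl⟩
  obtain ⟨D, hD⟩ : ∃ D : Subgroup G, D = M ⊓ N := ⟨_, rfl⟩
  rw [← hN, ← hD] at hidx
  have hDM : D ≤ M := hD ▸ inf_le_left
  have hDN : D ≤ N := hD ▸ inf_le_right
  have hcardN : Nat.card N = Nat.card M := by rw [hN]; exact card_mulAut_smul _ _
  have hDpos : 0 < Nat.card D := Nat.card_pos
  have hcardM : Nat.card M = 3 * Nat.card D := by
    have := card_mul_relIndex_of_le hDM
    rw [hidx] at this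
    omega
  have hMN : M ≠ N := by
    intro e
    have : D = M := by rw [hD, ← e, inf_idem]
    rw [this] at hcardM hDpos
    omega
  have hidxN : D.relIndex N = 3 := by
    have := card_mul_relIndex_of_le hDN
    rw [hcardN, hcardM, mul_comm 3] at this
    exact Nat.eq_of_mul_eq_mul_left hDpos this
  have hcoN : IsCoatom N := hN ▸ isCoatom_conj_smul hco h
  have hsup : M ⊔ N = ⊤ := by
    apply hco.2
    apply lt_of_le_of_ne le_sup_left
    intro e
    have hNM : N ≤ M := by rw [e]; exact le_sup_right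
    exact hMN (Subgroup.eq_of_le_of_card_ge hNM (by rw [hcardN])).symm
  -- D is a 2-group
  have h2grp : IsPGroup 2 D := by
    have : Fact (Nat.Prime 2) := ⟨Nat.prime_two⟩
    apply Cfsg.Agent.Lib.Helper49.isPGroup_of_coprime_trivial
    intro y hy hcop
    have hodd : Odd (orderOf y) := Nat.Coprime.odd_of_right hcop
    obtain ⟨S, hS⟩ : ∃ S : Set G, S = {y | y ∈ D ∧ Odd (orderOf y)} := ⟨_, rfl⟩
    have hSD : Subgroup.closure S ≤ D :=
      (Subgroup.closure_le D).mpr (fun s hs => by rw [hS] at hs; exact hs.1)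
    have hnorm : ∀ X : Subgroup G, D ≤ X → D.relIndex X = 3 →
        X ≤ Subgroup.normalizer ((Subgroup.closure S : Subgroup G) : Set G) := by
      intro X hDX hX m hm
      apply mem_normalizer_of_gens rfl
      intro s hs
      rw [hS] at hs
      obtain ⟨hsD, hsodd⟩ := hs
      apply Subgroup.subset_closure
      rw [hS]
      refine ⟨hOdd G X D hDX hX s hsD hsodd m hm, ?_⟩
      have : orderOf (m * s * m⁻¹) = orderOf s :=
        orderOf_injective (MulAut.conj m).toMonoidHom (MulAut.conj m).injective s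
      rw [this]
      exact hsodd
    have hOn : (Subgroup.closure S).Normal := by
      rw [← Subgroup.normalizer_eq_top_iff, eq_top_iff, ← hsup]
      exact sup_le (hnorm M hDM hidx) (hnorm N hDN hidxN)
    have hObot := hcore _ hOn (hSD.trans hDM)
    have hmem : y ∈ Subgroup.closure S := Subgroup.subset_closure (by rw [hS]; exact ⟨hy, hodd⟩)
    rw [hObot] at hmem
    exact Subgroup.mem_bot.mp hmem
  by_cases hDbot : D = ⊥
  · left
    rw [hcardM, hDbot, Subgroup.card_bot]
  right
  -- choose g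
  obtain ⟨g, hgN, hgD⟩ : ∃ g : G, MulAut.conj g⁻¹ • M = N ∧ MulAut.conj g⁻¹ • D ≠ D := by
    by_contra hcon
    push Not at hcon
    have hhm : ∀ m ∈ M, MulAut.conj (h * m) • D = D := fun m hm => by
      have := hcon (h * m)⁻¹ (by
        rw [inv_inv, map_mul, mul_smul, Subgroup.conj_smul_eq_self_of_mem hm, hN])
      rwa [inv_inv] at this
    have hhD : MulAut.conj h • D = D := by simpa using hhm 1 (one_mem _)
    have hMD : ∀ m ∈ M, MulAut.conj m • D = D := by
      intro m hm
      have := hhm m hm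
      rw [map_mul, mul_smul] at this
      exact smul_left_cancel (MulAut.conj h) (this.trans hhD.symm)
    have hhD' : (MulAut.conj h)⁻¹ • D = D := by
      rw [inv_smul_eq_iff]; exact hhD.symm
    have hND : ∀ n ∈ N, MulAut.conj n • D = D := by
      intro n hn
      rw [hN, Subgroup.mem_pointwise_smul_iff_inv_smul_mem] at hn
      have e : (MulAut.conj h)⁻¹ • n = h⁻¹ * n * h := by
        rw [MulAut.smul_def, ← map_inv, MulAut.conj_apply, inv_inv]
      rw [e] at hn
      have e2 : n = h * (h⁻¹ * n * h) * h⁻¹ := by group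
      rw [e2, map_mul, map_mul, mul_smul, mul_smul, map_inv, hhD', hMD _ hn, hhD]
    have hDn : D.Normal := by
      rw [← Subgroup.normalizer_eq_top_iff, eq_top_iff, ← hsup]
      exact sup_le (fun m hm => mem_normalizer_of_conj_smul_eq (hMD m hm))
        (fun n hn => mem_normalizer_of_conj_smul_eq (hND n hn))
    exact hDbot (hcore D hDn hDM)
  have hD'N : MulAut.conj g⁻¹ • D ≤ N := by
    rw [← hgN]
    exact Subgroup.pointwise_smul_le_pointwise_smul_iff.mpr hDM
  have hD'card : Nat.card (MulAut.conj g⁻¹ • D : Subgroup G) = Nat.card D := card_mulAut_smul _ _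
  have hD'D : ¬ MulAut.conj g⁻¹ • D ≤ D := fun hle =>
    hgD (Subgroup.eq_of_le_of_card_ge hle (by rw [hD'card]))
  refine ⟨D, g, hcardM, ?_, ?_⟩
  · have e1 : (D ⊓ MulAut.conj g⁻¹ • D).relIndex (MulAut.conj g⁻¹ • D)
        = D.relIndex (MulAut.conj g⁻¹ • D) := Subgroup.inf_relIndex_right _ _
    have e2 : D.relIndex (MulAut.conj g⁻¹ • D) ≤ D.relIndex N :=
      Subgroup.relIndex_le_of_le_right hD'N (by rw [hidxN]; norm_num)
    have e3 : D.relIndex (MulAut.conj g⁻¹ • D) ∣ Nat.card (MulAut.conj g⁻¹ • D : Subgroup G) :=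
      Subgroup.relIndex_dvd_card _ _
    have : Fact (Nat.Prime 2) := ⟨Nat.prime_two⟩
    obtain ⟨k, hk⟩ := IsPGroup.iff_card.mp h2grp
    rw [hD'card, hk] at e3
    obtain ⟨j, hj, hj2⟩ := (Nat.dvd_prime_pow Nat.prime_two).mp e3
    have hj1 : j ≠ 0 := by
      rintro rfl
      rw [pow_zero] at hj2
      exact hD'D (Subgroup.relIndex_eq_one.mp hj2)
    have hj2' : j < 2 := by
      by_contra hge
      push Not at hge
      have : 2 ^ 2 ≤ 2 ^ j := Nat.pow_le_pow_right (by norm_num) hge
      rw [hj2, hidxN] at e2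
      omega
    have hj1' : j = 1 := by omega
    rw [e1, hj2, hj1', pow_one]
  · intro Y hYD hsupY hor
    have hDY : D ≤ Subgroup.normalizer (Y : Set G) := le_sup_left.trans hsupY
    have hD'Y : MulAut.conj g⁻¹ • D ≤ Subgroup.normalizer (Y : Set G) := le_sup_right.trans hsupY
    have hNY : N ≤ Subgroup.normalizer (Y : Set G) := by
      rw [← sup_eq_of_card_three hDN hD'N (by rw [hcardN, hcardM]) hD'D]
      exact hsupY
    have hfin : Subgroup.normalizer (Y : Set G) = ⊤ → Y = ⊥ := fun htop =>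
      hcore Y (Subgroup.normalizer_eq_top_iff.mp htop) (hYD.trans hDM)
    rcases hor with hor | hor
    · -- conj g • D ≤ N(Y): M ≤ N(Y)
      have hD''M : MulAut.conj g • D ≤ M := by
        have h1 : MulAut.conj g • D ≤ MulAut.conj g • N :=
          Subgroup.pointwise_smul_le_pointwise_smul_iff.mpr hDN
        rw [← hgN, map_inv, smul_inv_smul] at h1
        exact h1
      have hD''D : ¬ MulAut.conj g • D ≤ D := by
        intro hle
        have e : MulAut.conj g • D = D :=
          Subgroup.eq_of_le_of_card_ge hle (by rw [card_mulAut_smul])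
        apply hgD
        rw [map_inv, inv_smul_eq_iff]
        exact e.symm
      have hMY : M ≤ Subgroup.normalizer (Y : Set G) := by
        rw [← sup_eq_of_card_three hDM hD''M hcardM hD''D]
        exact sup_le hDY hor
      apply hfin
      rw [eq_top_iff, ← hsup]
      exact sup_le hMY hNY
    · -- conj (g^2)⁻¹ • D ≤ N(Y): conj g⁻¹ • N ≤ N(Y)
      have e : MulAut.conj (g ^ 2)⁻¹ • D = MulAut.conj g⁻¹ • MulAut.conj g⁻¹ • D := by
        rw [pow_two, mul_inv_rev, map_mul, mul_smul]
      rw [e] at hor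
      have hN'Y : MulAut.conj g⁻¹ • N ≤ Subgroup.normalizer (Y : Set G) := by
        rw [← sup_eq_of_card_three hDN hD'N (by rw [hcardN, hcardM]) hD'D, Subgroup.smul_sup]
        exact sup_le hD'Y hor
      have hN'ne : ¬ MulAut.conj g⁻¹ • N ≤ N := by
        intro hle
        have e1 : MulAut.conj g⁻¹ • N = N :=
          Subgroup.eq_of_le_of_card_ge hle (by rw [card_mulAut_smul])
        rw [← hgN] at e1
        exact hMN ((smul_left_cancel _ e1).symm.trans hgN)
      have htop : N ⊔ MulAut.conj g⁻¹ • N = ⊤ :=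
        hcoN.2 _ (lt_of_le_of_ne le_sup_left (fun e2 => hN'ne (le_sup_right.trans e2.symm.le)))
      apply hfin
      exact top_le_iff.mp (htop.symm.le.trans (sup_le hNY hN'Y))

end Cfsg.Agent.Lib.Helper49.Shunt
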