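import Cfsg.Agent.Lib.Helper49.Shunt.SimsDefs

/-!
# Sims' theorem — the reduction `LemSimsRed`, split into three packages

* `LemSimsGlue` : permutation-group glue (stabilizer is a core-free coatom, index 3).
* `LemOddCore`  : odd-order elements of an index-3 subgroup `D ≤ M` stay in `D` under `M`-conjugation.
* `LemSimsRedAbs` : the abstract reduction.
-/

namespace Cfsg.Agent.Lib.Helper49.Shunt

universe u v

open Pointwise

/-- (R1) odd-order elements of a subgroup of index 3 lie in its core. -/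
def LemOddCore : Prop :=
  ∀ (G : Type u) [Group G] [Finite G] (M D : Subgroup G), D ≤ M → D.relIndex M = 3 →
    ∀ y ∈ D, Odd (orderOf y) → ∀ m ∈ M, m * y * m⁻¹ ∈ D

/-- (R3) permutation-group glue for Sims' theorem. -/
def LemSimsGlue : Prop :=
  ∀ (G : Type u) [Group G] [Finite G] (Ω : Type v) [MulAction G Ω] [FaithfulSMul G Ω],
    MulAction.IsPreprimitive G Ω → ∀ a b : Ω,
    Nat.card (MulAction.orbit (MulAction.stabilizer G a) b) = 3 →
    IsCoatom (MulAction.stabilizer G a) ∧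
    (∀ X : Subgroup G, X.Normal → X ≤ MulAction.stabilizer G a → X = ⊥) ∧
    ∃ h : G, (MulAction.stabilizer G a ⊓ MulAut.conj h • MulAction.stabilizer G a).relIndex
      (MulAction.stabilizer G a) = 3

/-- (R2) the abstract reduction. -/
def LemSimsRedAbs : Prop :=
  ∀ (G : Type u) [Group G] [Finite G] (M : Subgroup G) (h : G),
    IsCoatom M → (∀ X : Subgroup G, X.Normal → X ≤ M → X = ⊥) →
    (M ⊓ MulAut.conj h • M).relIndex M = 3 →
    Nat.card M = 3 ∨ ∃ (D : Subgroup G) (g : G), Nat.card M = 3 * Nat.card D ∧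
      (D ⊓ MulAut.conj g⁻¹ • D).relIndex (MulAut.conj g⁻¹ • D) = 2 ∧
      (∀ Y : Subgroup G, Y ≤ D →
        D ⊔ MulAut.conj g⁻¹ • D ≤ Subgroup.normalizer (Y : Set G) →
        (MulAut.conj g • D ≤ Subgroup.normalizer (Y : Set G) ∨
          MulAut.conj (g ^ 2)⁻¹ • D ≤ Subgroup.normalizer (Y : Set G)) → Y = ⊥)

theorem lemSimsRed_of (hGlue : LemSimsGlue.{u, v}) (hAbs : LemSimsRedAbs.{u}) :
    LemSimsRed.{u, v} := by
  intro G _ _ Ω _ _ hprim a b h3
  obtain ⟨hco, hcore, h, hidx⟩ := hGlue G Ω hprim a b h3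
  exact hAbs G _ h hco hcore hidx

end Cfsg.Agent.Lib.Helper49.Shunt
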